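/-
The special unitary group in dimension four acts on the points of a semilinear involution of the alternating
matrices, a six dimensional orthogonal space of minus type over the prime field, with image the derived group.
-/
import Cfsg.Agent.Lib.MaxCl.SLFour.Std
import Cfsg.Agent.Lib.Forms.Herm
import Cfsg.Agent.Lib.Forms.QuadOrder
import Cfsg.Agent.Lib.Forms.OmegaOrder
import Cfsg.Agent.Lib.ClassicalSimple.UnitaryMatrix

set_option autoImplicit false
set_option linter.unusedSectionVars false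

namespace Cfsg.Agent.MaxCl.SUFour

open scoped MatrixGroups Matrix
open SLFour

variable {F : Type*} [Field F] [Fintype F] {p : ℕ} [hp : Fact p.Prime] [CharP F p] {j : F}

local notation "σ" => frobenius F p

/-- The embedding of the prime field. -/
noncomputable abbrev emb (p : ℕ) (F : Type*) [Field F] [CharP F p] : ZMod p →+* F :=
  ZMod.castHom (dvd_refl p) F

omit [Fintype F] in
theorem emb_injective : Function.Injective (emb p F) := (emb p F).injective

theorem mem_range_emb {x : F} (h : σ x = x) : ∃ a, emb p F a = x := by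
  have h1 : x ∈ (⊥ : Subfield F) := (Subfield.mem_bot_iff_pow_eq_self (F := F) (p := p)).2 h
  rw [← ZMod.fieldRange_castHom_eq_bot p] at h1
  exact h1

theorem sigma_sigma (hF : Fintype.card F = p ^ 2) (a : F) : σ (σ a) = a := by
  rw [frobenius_def, frobenius_def, ← pow_mul, ← sq, ← hF, FiniteField.pow_card]

theorem hermForm_eq (u v : Fin 4 → F) : Cfsg.hermForm 4 F p u v = u ⬝ᵥ (fun i => σ (v i)) := rfl

/-- Preservation of the form, as a matrix equation. -/
theorem preserves_iff (G : Matrix (Fin 4) (Fin 4) F) :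
    (∀ u v, Cfsg.hermForm 4 F p (G *ᵥ u) (G *ᵥ v) = Cfsg.hermForm 4 F p u v) ↔ Gᵀ * G.map σ = 1 := by
  have key : ∀ u v, Cfsg.hermForm 4 F p (G *ᵥ u) (G *ᵥ v) = u ⬝ᵥ ((Gᵀ * G.map σ) *ᵥ fun i => σ (v i)) := by
    intro u v
    rw [hermForm_eq, ← Matrix.mulVec_mulVec, Matrix.dotProduct_mulVec u Gᵀ, Matrix.vecMul_transpose]
    congr 1
    funext i
    exact RingHom.map_mulVec σ G v i
  constructor
  · intro h
    ext a b
    have h1 := h (Pi.single a 1) (Pi.single b 1)
    rw [key, hermForm_eq] at h1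
    have e : (fun i => σ ((Pi.single b 1 : Fin 4 → F) i)) = Pi.single b 1 := by
      funext i; by_cases hi : i = b <;> simp [hi]
    rw [e] at h1
    simpa [Matrix.one_apply, Pi.single_apply, eq_comm] using h1
  · intro h u v
    rw [key, h, Matrix.one_mulVec, hermForm_eq]

/-- Unitary matrices of determinant one. -/
theorem mem_SU {g : SL(4, F)} :
    g ∈ Cfsg.SU 4 F p ↔ (g : Matrix (Fin 4) (Fin 4) F)ᵀ * (g : Matrix (Fin 4) (Fin 4) F).map σ = 1 :=
  preserves_iff _

/-- Unitary matrices. -/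
theorem mem_GU {g : GL (Fin 4) F} :
    g ∈ Cfsg.GU 4 F p ↔ (g : Matrix (Fin 4) (Fin 4) F)ᵀ * (g : Matrix (Fin 4) (Fin 4) F).map σ = 1 :=
  preserves_iff _

theorem Phi_map (x : Fin 6 → F) : (Phi x).map σ = Phi fun i => σ (x i) := by
  ext a b; fin_cases a <;> fin_cases b <;> simp [Phi, Forms.alt4]

theorem dual4_map (M : Matrix (Fin 4) (Fin 4) F) : (Forms.dual4 M).map σ = Forms.dual4 (M.map σ) := by
  ext a b; fin_cases a <;> fin_cases b <;> simp [Forms.dual4, Forms.alt4]

/-- The semilinear involution on coordinates. -/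
noncomputable def str (p : ℕ) [Fact p.Prime] [CharP F p] (x : Fin 6 → F) : Fin 6 → F :=
  ![frobenius F p (x 5), -frobenius F p (x 4), frobenius F p (x 3), frobenius F p (x 2), -frobenius F p (x 1),
    frobenius F p (x 0)]

theorem Phi_str (x : Fin 6 → F) : Phi (str p x) = -Forms.dual4 (Phi fun i => σ (x i)) := by
  ext a b; fin_cases a <;> fin_cases b <;> simp [Phi, str, Forms.dual4, Forms.alt4]

/-- Unitary elements commute with the involution. -/
theorem str_rho {g : SL(4, F)} (hg : g ∈ Cfsg.SU 4 F p) (x : Fin 6 → F) :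
    str p (act (rho F g) x) = act (rho F g) (str p x) := by
  apply Phi_injective
  obtain ⟨y, hy⟩ : ∃ y : Fin 6 → F, y = act (rho F g) x := ⟨_, rfl⟩
  set G := (g : Matrix (Fin 4) (Fin 4) F)
  set h : SL(4, F) := Matrix.SpecialLinearGroup.map σ g
  have hh : (h : Matrix (Fin 4) (Fin 4) F) = G.map σ := rfl
  have e1 : Gᵀ * (h : Matrix (Fin 4) (Fin 4) F) = 1 := mem_SU.1 hg
  have e2 : (h : Matrix (Fin 4) (Fin 4) F) * Gᵀ = 1 := mul_eq_one_comm.1 e1
  have e3 : G * (h : Matrix (Fin 4) (Fin 4) F)ᵀ = 1 := by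
    simpa [Matrix.transpose_mul] using congrArg Matrix.transpose e2
  rw [← hy, Phi_str, Phi_act_rho, Phi_str, Matrix.mul_neg, Matrix.neg_mul]
  congr 1
  have e4 := (Forms.pf_dual_conj h (isAlt_Phi fun i => σ (x i))).2
  have e5 : Phi (fun i => σ (y i)) =
      (h : Matrix (Fin 4) (Fin 4) F) * Phi (fun i => σ (x i)) * (h : Matrix (Fin 4) (Fin 4) F)ᵀ := by
    rw [← Phi_map, hy, Phi_act_rho, Matrix.map_mul, Matrix.map_mul, Phi_map, Matrix.transpose_map, hh]
  rw [e5]
  conv_rhs => rw [← e4]
  have e3' : (g : Matrix (Fin 4) (Fin 4) F) * (h : Matrix (Fin 4) (Fin 4) F)ᵀ = 1 := e3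
  simp only [← mul_assoc, e3', one_mul]
  rw [mul_assoc _ (h : Matrix (Fin 4) (Fin 4) F) Gᵀ, e2, mul_one]

section Basis

variable (hj : j * j = -1) (h2 : (2 : F) ≠ 0)
include hj h2

theorem baseMat_det : (Matrix.of fun k l => fe j l k).det ≠ 0 := by
  intro h
  obtain ⟨v, hv, hv0⟩ := Matrix.exists_mulVec_eq_zero_iff.2 h
  apply hv
  have hi := (fe_frame hj h2).indep
  rw [Fintype.linearIndependent_iff] at hi
  funext i
  refine hi v (funext fun k => ?_) i
  rw [Finset.sum_apply, ← congrFun hv0 k]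
  simp [Matrix.mulVec, dotProduct, mul_comm]

/-- The frame as a change of coordinates. -/
noncomputable def base : GL (Fin 6) F :=
  Matrix.GeneralLinearGroup.mkOfDetNeZero _ (baseMat_det hj h2)

theorem act_base (z : Fin 6 → F) : act (base hj h2) z = ∑ l, z l • fe j l := by
  funext k
  rw [act_apply, Finset.sum_apply]
  simp [base, Matrix.mulVec, dotProduct, mul_comm]

theorem str_base (hjp : σ j = -j) (z : Fin 6 → F) :
    str p (act (base hj h2) z) = act (base hj h2) fun i => σ (z i) := by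
  rw [act_base, act_base]
  funext k
  fin_cases k <;> simp [str, Fin.sum_univ_six, fe, hjp, map_add, map_mul, map_neg] <;> ring

theorem qf6_base (z : Fin 6 → F) : qf6 F (act (base hj h2) z) = ∑ i, z i * z i := by
  rw [act_base, qf6_apply]
  simp [Fin.sum_univ_six, fe]
  linear_combination (-(z 1 * z 1) - z 2 * z 2 - z 5 * z 5) * hj

/-- The matrix in frame coordinates. -/
noncomputable def tmat : SL(4, F) →* GL (Fin 6) F :=
  (MulAut.conj (base hj h2)⁻¹).toMonoidHom.comp (rho F)

theorem base_tmat (g : SL(4, F)) (z : Fin 6 → F) :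
    act (base hj h2) (act (tmat hj h2 g) z) = act (rho F g) (act (base hj h2) z) := by
  rw [← act_mul, ← act_mul]
  congr 2
  simp [tmat, mul_assoc]

theorem tmat_real (hjp : σ j = -j) (g : Cfsg.SU 4 F p) (k l : Fin 6) :
    ∃ a, emb p F a = (tmat hj h2 g.1 : Matrix (Fin 6) (Fin 6) F) k l := by
  refine mem_range_emb ?_
  obtain ⟨y, hy⟩ : ∃ y, y = act (tmat hj h2 g.1) (Pi.single l 1) := ⟨_, rfl⟩
  have h1 : act (base hj h2) (fun i => σ (y i)) = act (base hj h2) y := by
    rw [← str_base hj h2 hjp, hy, base_tmat, str_rho g.2, str_base hj h2 hjp]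
    congr 2
    funext i
    by_cases hi : i = l <;> simp [hi]
  have h3 := congrFun (act_injective _ h1) k
  rw [hy, act_apply, Matrix.mulVec_single_one] at h3
  exact h3

end Basis

/-- Shared hypotheses. -/
structure Hyp (F : Type*) [Field F] [Fintype F] (p : ℕ) (j : F) : Prop where
  card : Fintype.card F = p ^ 2
  p4 : p % 4 = 3
  jj : j * j = -1
  two : (2 : F) ≠ 0
  jp : j ^ p = -j

variable (H : Hyp F p j)
include H

theorem Hyp.sigma_j : σ j = -j := by rw [frobenius_def]; exact H.jp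

theorem exists_tauMat (g : Cfsg.SU 4 F p) :
    ∃ A : Matrix (Fin 6) (Fin 6) (ZMod p), A.map (emb p F) = (tmat H.jj H.two g.1 : Matrix (Fin 6) (Fin 6) F) := by
  choose A hA using tmat_real H.jj H.two H.sigma_j g
  exact ⟨Matrix.of A, Matrix.ext fun k l => hA k l⟩

/-- The representation over the prime field. -/
noncomputable def tau : Cfsg.SU 4 F p →* GL (Fin 6) (ZMod p) :=
  MonoidHom.toHomUnits
    { toFun := fun g => Classical.choose (exists_tauMat H g)
      map_one' := by
        apply Matrix.map_injective (emb_injective (F := F) (p := p))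
        beta_reduce
        rw [Classical.choose_spec (exists_tauMat H 1)]
        simp
      map_mul' := fun a b => by
        apply Matrix.map_injective (emb_injective (F := F) (p := p))
        beta_reduce
        rw [Classical.choose_spec (exists_tauMat H (a * b)), Matrix.map_mul,
          Classical.choose_spec (exists_tauMat H a), Classical.choose_spec (exists_tauMat H b)]
        simp }

theorem map_tau (g : Cfsg.SU 4 F p) :
    (tau H g : Matrix (Fin 6) (Fin 6) (ZMod p)).map (emb p F) = (tmat H.jj H.two g.1 : Matrix (Fin 6) (Fin 6) F) :=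
  Classical.choose_spec (exists_tauMat H g)

theorem emb_act_tau (g : Cfsg.SU 4 F p) (v : Fin 6 → ZMod p) :
    (fun i => emb p F (act (tau H g) v i)) = act (tmat H.jj H.two g.1) fun i => emb p F (v i) := by
  funext i
  rw [act_apply, act_apply, ← map_tau H g]
  exact RingHom.map_mulVec _ _ _ _

omit H in
/-- The sum of six squares. -/
noncomputable def sq6 (p : ℕ) : QuadraticForm (ZMod p) (Fin 6 → ZMod p) :=
  QuadraticMap.weightedSumSquares (ZMod p) fun _ : Fin 6 => (1 : ZMod p)

omit H in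
theorem sq6_apply (v : Fin 6 → ZMod p) : sq6 p v = ∑ i, v i * v i := by
  simp [sq6, QuadraticMap.weightedSumSquares_apply]

theorem two_ne : (2 : ZMod p) ≠ 0 := fun e =>
  H.two ((map_ofNat (emb p F) 2).symm.trans ((congrArg (emb p F) e).trans (map_zero _)))

theorem four_ne : (4 : ZMod p) ≠ 0 := by
  rw [show (4 : ZMod p) = 2 * 2 by norm_num]; exact mul_ne_zero (two_ne H) (two_ne H)

theorem sq_frame : Mono.Frame (sq6 p) (fun i : Fin 6 => (Pi.single i 1 : Fin 6 → ZMod p)) 1 where
  Qe i := by rw [sq6_apply, Finset.sum_eq_single i] <;> simp +contextual [Pi.single_apply]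
  c0 := one_ne_zero
  two := two_ne H
  orth i k hik := by
    simp only [QuadraticMap.polar, sq6_apply, Pi.add_apply, ← Finset.sum_sub_distrib]
    refine Finset.sum_eq_zero fun l _ => ?_
    by_cases hli : l = i
    · subst hli; simp [hik]
    · simp [hli]
  span := by
    rw [eq_top_iff]
    intro x _
    rw [Submodule.mem_span_range_iff_exists_fun]
    exact ⟨x, (pi_eq_sum_univ' x).symm⟩

theorem sq6_nondegenerate : (QuadraticMap.polarBilin (sq6 p)).Nondegenerate := (sq_frame H).nondegenerate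

theorem tau_mem_iso (g : Cfsg.SU 4 F p) : tau H g ∈ isometryGroup (ZMod p) (sq6 p) := by
  rw [Orth.mem_iso]
  intro v
  apply emb_injective (F := F)
  rw [sq6_apply, sq6_apply, map_sum, map_sum]
  simp only [map_mul]
  rw [← qf6_base H.jj H.two, ← qf6_base H.jj H.two, emb_act_tau, base_tmat]
  exact (Orth.mem_iso _).1 (rho_mem_iso g.1) _

theorem tau_range_le : (tau H).range ≤ Cfsg.Geo.omegaGL (sq6 p) := by
  let r : Cfsg.SU 4 F p →* isometryGroup (ZMod p) (sq6 p) := (tau H).codRestrict _ (tau_mem_iso H)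
  rintro _ ⟨g, rfl⟩
  refine ⟨r g, ?_, rfl⟩
  have h1 : r g ∈ (commutator (Cfsg.SU 4 F p)).map r :=
    Subgroup.mem_map_of_mem r (by rw [ClassicalSimple.SU_perfect H.card (by norm_num) (by omega)]; trivial)
  rw [commutator_def, Subgroup.map_commutator] at h1
  exact Subgroup.commutator_mono le_top le_top h1

theorem card_ker_le : Nat.card (tau H).ker ≤ 2 := by
  classical
  have hz : ∀ x : (tau H).ker, (x.1.1 : SL(4, F)) = 1 ∨ x.1.1 = gen H.jj 0 * gen H.jj 0 := by
    rintro ⟨x, hx⟩
    refine ker_cases H.jj H.two ?_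
    have h1 : tmat H.jj H.two x.1 = 1 := Units.ext (by
      rw [← map_tau H x, MonoidHom.mem_ker.1 hx]; simp)
    exact (map_eq_one_iff _ (MulEquiv.injective (MulAut.conj (base H.jj H.two)⁻¹))).1 h1
  let f : (tau H).ker → ({1, gen H.jj 0 * gen H.jj 0} : Finset SL(4, F)) :=
    fun x => ⟨x.1.1, by rcases hz x with h | h <;> simp [h]⟩
  have hf : Function.Injective f := fun a b h => Subtype.ext (Subtype.ext (congrArg Subtype.val h :))
  refine (Nat.card_le_card_of_injective f hf).trans ?_
  rw [Nat.card_eq_fintype_card, Fintype.card_coe]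
  exact Finset.card_le_two

theorem not_isSquare_neg_one : ¬ IsSquare (-1 : ZMod p) := fun h => ZMod.exists_sq_eq_neg_one_iff.1 h H.p4

theorem card_iso : Nat.card (isometryGroup (ZMod p) (sq6 p)) = 2 * p ^ 6 * (p ^ 3 + 1) * ((p ^ 2 - 1) * (p ^ 4 - 1)) := by
  obtain ⟨α, β, hab⟩ := ZMod.sq_add_sq p (-1 : ZMod p)
  have h4 := four_ne H
  let L : ((Fin 2 ⊕ Fin 2) ⊕ Fin 2 → ZMod p) →ₗ[ZMod p] (Fin 6 → ZMod p) :=
    { toFun := fun v =>
        ![v (.inl (.inl 0)) + v (.inl (.inr 0)) / 4, v (.inl (.inl 1)) + v (.inl (.inr 1)) / 4,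
          α * (v (.inl (.inl 0)) - v (.inl (.inr 0)) / 4) - β * (v (.inl (.inl 1)) - v (.inl (.inr 1)) / 4),
          β * (v (.inl (.inl 0)) - v (.inl (.inr 0)) / 4) + α * (v (.inl (.inl 1)) - v (.inl (.inr 1)) / 4),
          v (.inr 0), v (.inr 1)]
      map_add' := fun v w => by funext k; fin_cases k <;> simp <;> ring
      map_smul' := fun c v => by funext k; fin_cases k <;> simp <;> ring }
  have hL : Function.Injective L := by
    rw [← LinearMap.ker_eq_bot, LinearMap.ker_eq_bot']
    intro v hv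
    have c0 := congrFun hv 0; have c1 := congrFun hv 1; have c2 := congrFun hv 2
    have c3 := congrFun hv 3; have c4 := congrFun hv 4; have c5 := congrFun hv 5
    simp [L] at c0 c1 c2 c3 c4 c5
    obtain ⟨a, ha⟩ : ∃ a, a = v (.inl (.inl 0)) - v (.inl (.inr 0)) / 4 := ⟨_, rfl⟩
    obtain ⟨b, hb⟩ : ∃ b, b = v (.inl (.inl 1)) - v (.inl (.inr 1)) / 4 := ⟨_, rfl⟩
    rw [← ha, ← hb] at c2 c3
    have a0 : a = 0 := by linear_combination a * hab - α * c2 - β * c3
    have b0 : b = 0 := by linear_combination b * hab - α * c3 + β * c2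
    have x0 : v (.inl (.inl 0)) = 0 := (mul_eq_zero.1 (show (2 : ZMod p) * v (.inl (.inl 0)) = 0 by
      linear_combination c0 + a0 - ha)).resolve_left (two_ne H)
    have x1 : v (.inl (.inl 1)) = 0 := (mul_eq_zero.1 (show (2 : ZMod p) * v (.inl (.inl 1)) = 0 by
      linear_combination c1 + b0 - hb)).resolve_left (two_ne H)
    rw [x0, zero_add, div_eq_zero_iff] at c0
    rw [x1, zero_add, div_eq_zero_iff] at c1
    funext i
    rcases i with (i | i) | i <;> fin_cases i <;>
      first | exact x0 | exact x1 | exact c0.resolve_right h4 | exact c1.resolve_right h4 | exact c4 | exact c5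
  let e := LinearEquiv.ofBijective L ⟨hL, (LinearMap.injective_iff_surjective_of_finrank_eq_finrank (by simp)).1 hL⟩
  have hab' : ∀ z₁ z₂ : ZMod p, z₁ ^ 2 + 0 * z₁ * z₂ + 1 * z₂ ^ 2 = 0 → z₁ = 0 ∧ z₂ = 0 := fun z₁ z₂ h => by
    by_cases hz : z₂ = 0
    · subst hz; exact ⟨by simpa using h, rfl⟩
    · exact absurd ⟨z₁ / z₂, by field_simp; linear_combination -h⟩ (not_isSquare_neg_one H)
  rw [Nat.card_congr (Forms.isometryGroupEquivQ (sq6 p) (fun _ => rfl)).toEquiv,
    ← Forms.card_isomQ_congr (Q := Forms.quadMinus 2 (ZMod p) 0 1) e (fun v => ?_),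
    Forms.card_isomQ_quadMinus 2 hab', ZMod.card]
  · simp [Finset.prod_range_succ]
  · have h16 : (16 : ZMod p) ≠ 0 := by
      rw [show (16 : ZMod p) = 4 * 4 by norm_num]; exact mul_ne_zero h4 h4
    have he : ∀ v, e v = L v := fun _ => rfl
    simp only [he, sq6_apply, L, LinearMap.coe_mk, AddHom.coe_mk]
    simp [Forms.quadMinus, Fin.sum_univ_six, Fin.sum_univ_two]
    field_simp
    linear_combination ((4 * v (.inl (.inl 0)) - v (.inl (.inr 0))) ^ 2 +
      (4 * v (.inl (.inl 1)) - v (.inl (.inr 1))) ^ 2) * hab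

/-- The image is the derived orthogonal group. -/
theorem tau_range : (tau H).range = Cfsg.Geo.omegaGL (sq6 p) := by
  haveI : Finite (GL (Fin 6) (ZMod p)) := inferInstance
  refine Subgroup.eq_of_le_of_card_ge (tau_range_le H) ?_
  have hΩ : Nat.card (Cfsg.Geo.omegaGL (sq6 p)) = Nat.card (Cfsg.Omega (ZMod p) ⇑(sq6 p)) :=
    (Nat.card_congr (Subgroup.equivMapOfInjective _ _ (Subgroup.subtype_injective _)).toEquiv).symm
  have hidx := Forms.omega_index_odd (sq6 p) (two_ne H) (sq6_nondegenerate H) (by simp)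
  have hO := Subgroup.card_mul_index (Cfsg.Omega (ZMod p) ⇑(sq6 p))
  rw [hidx, card_iso H, ← hΩ] at hO
  have hS := Forms.card_SU_mul H.card (n := 4) (by norm_num)
  rw [Forms.card_GU H.card] at hS
  simp only [Finset.prod_range_succ, Finset.prod_range_zero, one_mul] at hS
  rw [if_pos (by decide), if_neg (by decide), if_pos (by decide), if_neg (by decide)] at hS
  norm_num only [pow_one] at hS
  have hK : Nat.card (Cfsg.SU 4 F p) = Nat.card (tau H).ker * Nat.card (tau H).range := by
    rw [← Subgroup.index_ker, Subgroup.card_mul_index]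
  have hle : Nat.card (Cfsg.SU 4 F p) ≤ 2 * Nat.card (tau H).range :=
    hK ▸ Nat.mul_le_mul_right _ (card_ker_le H)
  have hS' : Nat.card (Cfsg.SU 4 F p) = p ^ 6 * ((p ^ 2 - 1) * (p ^ 4 - 1) * (p ^ 3 + 1)) := by
    refine Nat.eq_of_mul_eq_mul_left (show 0 < p + 1 by omega) ?_
    rw [hS]; ring
  have h3 : 4 * Nat.card (Cfsg.Geo.omegaGL (sq6 p)) = 2 * Nat.card (Cfsg.SU 4 F p) := by
    rw [hS', mul_comm, hO]; ring
  omega

end Cfsg.Agent.MaxCl.SUFour
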