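/-
The normaliser of the standard group of symplectic type in the special unitary group of dimension four is maximal:
it is the stabiliser of a frame of six lines in the six dimensional orthogonal space over the prime field.
-/
import Cfsg.Agent.Lib.MaxCl.SUFour.Descend

set_option autoImplicit false
set_option linter.unusedSectionVars false

namespace Cfsg.Agent.MaxCl.SUFour

open scoped MatrixGroups Matrix
open SLFour

variable {F : Type*} [Field F] [Fintype F] {p : ℕ} [hp : Fact p.Prime] [CharP F p] {j : F} (H : Hyp F p j)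
include H

local notation "σ" => frobenius F p

theorem gen_mem_SU (k : Fin 5) : gen H.jj k ∈ Cfsg.SU 4 F p := by
  rw [mem_SU]
  ext a b
  fin_cases k <;> fin_cases a <;> fin_cases b <;>
    simp [gen, genMat, Matrix.mul_apply, Fin.sum_univ_four, H.sigma_j, H.jj, Matrix.diagonal]

theorem stdGroup_le : stdGroup H.jj ≤ Cfsg.SU 4 F p :=
  (Subgroup.closure_le _).2 (by rintro _ ⟨k, rfl⟩; exact gen_mem_SU H k)

theorem act_base_single (i : Fin 6) : act (base H.jj H.two) (Pi.single i 1) = fe j i := by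
  rw [act_base, Finset.sum_eq_single i (fun l _ hl => by simp [hl]) (by simp)]
  simp

/-- Monomial elements correspond. -/
theorem mono_iff (g : Cfsg.SU 4 F p) : rho F g.1 ∈ Mono.monoGroup (fe j) ↔
    tau H g ∈ Mono.monoGroup (fun i : Fin 6 => (Pi.single i 1 : Fin 6 → ZMod p)) := by
  have key : ∀ i, act (rho F g.1) (fe j i) =
      act (base H.jj H.two) fun k => emb p F (act (tau H g) (Pi.single i 1) k) := fun i => by
    rw [← act_base_single H i, ← base_tmat, emb_act_tau]
    congr 2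
    funext k; by_cases hk : k = i <;> simp [hk]
  constructor
  · rintro ⟨π, h⟩
    refine Mono.isMono_of_forall (sq_frame H) fun i => ⟨π i, act (tau H g) (Pi.single i 1) (π i), ?_⟩
    obtain ⟨s, -, hs⟩ := h i
    rw [key, ← act_base_single H (π i), ← map_smul] at hs
    have e := act_injective _ hs
    funext k
    by_cases hk : k = π i
    · subst hk; simp
    · have e' := congrFun e k
      rw [Pi.smul_apply, Pi.single_eq_of_ne hk, smul_zero] at e'
      rw [Pi.smul_apply, Pi.single_eq_of_ne hk, smul_zero]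
      exact emb_injective (e'.trans (map_zero (emb p F)).symm)
  · rintro ⟨π, h⟩
    refine Mono.isMono_of_forall (fe_frame H.jj H.two) fun i => ?_
    obtain ⟨s, -, hs⟩ := h i
    refine ⟨π i, emb p F s, ?_⟩
    rw [key, hs, ← act_base_single H (π i), ← map_smul]
    congr 1
    funext k; by_cases hk : k = π i <;> simp [hk]

omit H in
/-- Conjugation transport. -/
theorem map_normalizer_iff {G K : Type*} [Group G] [Group K] {f : G →* K} (hf : Function.Injective f)
    (S : Subgroup G) (x : G) :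
    f x ∈ Subgroup.normalizer (S.map f : Set K) ↔ x ∈ Subgroup.normalizer (S : Set G) := by
  rw [Subgroup.mem_normalizer_iff, Subgroup.mem_normalizer_iff]
  constructor
  · intro h y
    have := h (f y)
    simp only [← map_mul, ← map_inv, SetLike.mem_coe, Subgroup.mem_map_iff_mem hf] at this ⊢
    exact this
  · intro h y
    simp only [SetLike.mem_coe, Subgroup.mem_map] at h ⊢
    constructor
    · rintro ⟨z, hz, rfl⟩; exact ⟨_, (h z).1 hz, by rw [map_mul, map_mul, map_inv]⟩
    · rintro ⟨w, hw, he⟩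
      refine ⟨x⁻¹ * w * x, ?_, by rw [map_mul, map_mul, map_inv, he]; group⟩
      rw [h, show x * (x⁻¹ * w * x) * x⁻¹ = w by group]
      exact hw

/-- The normaliser of the standard group is maximal. -/
theorem std_maximal :
    Cfsg.Geo.IsMaximalIn (Cfsg.GU 4 F p ⊓ Cfsg.Geo.specialLinear (Fin 4) F)
      (Cfsg.Geo.subgroupNormalizer ((stdGroup H.jj).map Matrix.SpecialLinearGroup.toGL) ⊓
        (Cfsg.GU 4 F p ⊓ Cfsg.Geo.specialLinear (Fin 4) F)) := by
  set f : Cfsg.SU 4 F p →* GL (Fin 4) F := Matrix.SpecialLinearGroup.toGL.comp (Cfsg.SU 4 F p).subtype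
  have hG : ∀ g : GL (Fin 4) F, g ∈ Cfsg.GU 4 F p ⊓ Cfsg.Geo.specialLinear (Fin 4) F ↔ ∃ x, f x = g := fun g => by
    constructor
    · rintro ⟨hU, hg⟩
      have hdet : (g : Matrix (Fin 4) (Fin 4) F).det = 1 := congrArg Units.val (MonoidHom.mem_ker.1 hg)
      exact ⟨⟨⟨_, hdet⟩, hU⟩, Units.ext rfl⟩
    · rintro ⟨x, rfl⟩; exact ⟨x.2, MonoidHom.mem_ker.2 (Units.ext x.1.2)⟩
  have hiff : ∀ x : Cfsg.SU 4 F p, f x ∈ Cfsg.Geo.subgroupNormalizer
      ((stdGroup H.jj).map Matrix.SpecialLinearGroup.toGL) ↔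
      tau H x ∈ Mono.monoGroup (fun i : Fin 6 => (Pi.single i 1 : Fin 6 → ZMod p)) := fun x => by
    rw [← mono_iff H, ← mem_normalizer_iff H.jj H.two]
    exact map_normalizer_iff Matrix.SpecialLinearGroup.toGL_injective _ _
  have hmax := Mono.maximal_of_frame_six (sq_frame H) (by rw [Nat.card_zmod]; exact hp.out)
  have hrange := tau_range H
  refine ⟨lt_of_le_of_ne inf_le_right fun heq => ?_, fun M hHM hMS => ?_⟩
  · refine hmax.1.not_ge fun w hw => ?_
    obtain ⟨g, rfl⟩ := hrange.ge hw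
    exact ⟨(hiff g).1 ((inf_eq_right.1 heq) ((hG _).2 ⟨g, rfl⟩)), hw⟩
  · let M' := (M.comap f).map (tau H)
    have h1 : Mono.monoGroup (fun i : Fin 6 => (Pi.single i 1 : Fin 6 → ZMod p)) ⊓ Cfsg.Geo.omegaGL (sq6 p) ≤ M' := by
      rintro w ⟨hw, hwΩ⟩
      obtain ⟨g, rfl⟩ := hrange.ge hwΩ
      exact ⟨g, hHM ⟨(hiff g).2 hw, (hG _).2 ⟨g, rfl⟩⟩, rfl⟩
    have h2' : M' ≤ Cfsg.Geo.omegaGL (sq6 p) := by
      rintro _ ⟨g, -, rfl⟩; exact hrange.le ⟨g, rfl⟩
    rcases hmax.2 M' h1 h2' with h | h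
    · left
      refine le_antisymm (fun g hg => ⟨?_, hMS hg⟩) hHM
      obtain ⟨x, rfl⟩ := (hG g).1 (hMS hg)
      exact (hiff x).2 (h.le ⟨x, hg, rfl⟩).1
    · right
      refine le_antisymm hMS fun g hg => ?_
      obtain ⟨x, rfl⟩ := (hG g).1 hg
      obtain ⟨y, hy, he⟩ := h.ge (hrange.le ⟨x, rfl⟩)
      have hk : f (y⁻¹ * x) ∈ M := hHM ⟨(hiff _).2 (by
        rw [map_mul, map_inv, he, inv_mul_cancel]; exact one_mem _), (hG _).2 ⟨_, rfl⟩⟩
      have := mul_mem (show f y ∈ M from hy) hk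
      rwa [← map_mul, mul_inv_cancel_left] at this

end Cfsg.Agent.MaxCl.SUFour
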