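/-
In the special unitary group of dimension four over the field of `p ^ 2` elements, `p ≡ 3` modulo four, the
normaliser of a group of symplectic type is maximal.
-/
import Cfsg.Agent.Lib.MaxCl.SUFour.Std
import Cfsg.Agent.Lib.MaxCl.SLFour.SymType

set_option autoImplicit false
set_option linter.unusedSectionVars false

namespace Cfsg.Agent.MaxCl.SUFour

open scoped MatrixGroups Matrix
open SLFour

variable {F : Type*} [Field F] [Fintype F] {p : ℕ} [hp : Fact p.Prime] [CharP F p] {j : F}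

local notation "σ" => frobenius F p

omit hp [CharP F p] in
theorem pow_p_of_sq (hp4 : p % 4 = 3) (hj : j * j = -1) : j ^ p = -j := by
  rw [show p = 4 * (p / 4) + 3 by omega, pow_add, pow_mul, show j ^ 4 = 1 by linear_combination (j * j - 1) * hj,
    one_pow, one_mul]
  linear_combination j * hj

/-- The conjugating element can be chosen unitary. -/
theorem exists_unitary (H : Hyp F p j) {P : GL (Fin 4) F}
    (hU : ((stdGroup H.jj).map Matrix.SpecialLinearGroup.toGL).map (MulAut.conj P).toMonoidHom ≤ Cfsg.GU 4 F p) :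
    ∃ Q ∈ Cfsg.GU 4 F p, ∀ g : GL (Fin 4) F, MulAut.conj Q g = MulAut.conj P g := by
  set M : Matrix (Fin 4) (Fin 4) F := (P : Matrix (Fin 4) (Fin 4) F)ᵀ * (P : Matrix (Fin 4) (Fin 4) F).map σ
    with hM
  have hc : ∀ k : Fin 5, k ≠ 0 → M * genMat j k = genMat j k * M := by
    intro k hk
    set g : GL (Fin 4) F := Matrix.SpecialLinearGroup.toGL (gen H.jj k)
    have hg : (g : Matrix (Fin 4) (Fin 4) F) = genMat j k := rfl
    have e := mem_GU.1 (hU ⟨g, ⟨_, Subgroup.subset_closure ⟨k, rfl⟩, rfl⟩, rfl⟩)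
    simp only [MulEquiv.coe_toMonoidHom, MulAut.conj_apply, Units.val_mul, hg, Matrix.transpose_mul,
      Matrix.map_mul] at e
    have hT : (genMat j k)ᵀ = genMat j k := by
      fin_cases k <;> first | exact absurd rfl hk |
        (ext a b; fin_cases a <;> fin_cases b <;> simp [genMat, Matrix.diagonal])
    have hS : (genMat j k).map σ = genMat j k := by
      fin_cases k <;> first | exact absurd rfl hk |
        (ext a b; fin_cases a <;> fin_cases b <;> simp [genMat, Matrix.diagonal])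
    have hsq : genMat j k * genMat j k = 1 := by
      fin_cases k <;> first | exact absurd rfl hk |
        (ext a b; fin_cases a <;> fin_cases b <;> simp [genMat, Matrix.mul_apply, Fin.sum_univ_four, Matrix.diagonal])
    rw [hT, hS] at e
    have c1 : ((P⁻¹ : GL (Fin 4) F) : Matrix (Fin 4) (Fin 4) F) * P = 1 := Units.inv_mul P
    have c2 : (P : Matrix (Fin 4) (Fin 4) F)ᵀ * (((P⁻¹ : GL (Fin 4) F) : Matrix (Fin 4) (Fin 4) F))ᵀ = 1 := by
      rw [← Matrix.transpose_mul, c1, Matrix.transpose_one]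
    have c3 : (((P⁻¹ : GL (Fin 4) F) : Matrix (Fin 4) (Fin 4) F)).map σ * (P : Matrix (Fin 4) (Fin 4) F).map σ = 1 := by
      rw [← Matrix.map_mul, c1, Matrix.map_one _ (map_zero _) (map_one _)]
    have e' := congrArg (fun X => (P : Matrix (Fin 4) (Fin 4) F)ᵀ * X * (P : Matrix (Fin 4) (Fin 4) F).map σ) e
    simp only [← mul_assoc, c2, one_mul, mul_one] at e'
    rw [mul_assoc _ _ ((P : Matrix (Fin 4) (Fin 4) F).map σ), c3, mul_one] at e'
    rw [hM]
    conv_lhs => rw [← e']
    simp only [mul_assoc, hsq, mul_one]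
  have hM1 : M = M 0 0 • 1 := scalar_of_commute H.two hc
  have hne : M 0 0 ≠ 0 := fun h => by
    rw [h, zero_smul] at hM1
    have := congrArg Matrix.det hM1
    rw [Matrix.det_mul, Matrix.det_transpose, Matrix.det_zero] at this
    have hd : (P : Matrix (Fin 4) (Fin 4) F).det ≠ 0 := Matrix.GeneralLinearGroup.det_ne_zero P
    rw [← RingHom.mapMatrix_apply, ← RingHom.map_det] at this
    exact mul_ne_zero hd (by simpa using hd) this
  have hfix : M 0 0 ^ p = M 0 0 := by
    rw [← frobenius_def, hM]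
    simp only [Matrix.mul_apply, map_sum, map_mul, Matrix.map_apply, Matrix.transpose_apply,
      sigma_sigma H.card, mul_comm]
  obtain ⟨μ, hμ, hμp⟩ := Forms.exists_norm_eq H.card hne hfix
  let D : GL (Fin 4) F := Units.map (Matrix.scalar (Fin 4) : F →+* Matrix (Fin 4) (Fin 4) F).toMonoidHom
    (Units.mk0 μ hμ)⁻¹
  have hD : (D : Matrix (Fin 4) (Fin 4) F) = μ⁻¹ • 1 := by simp [D, Matrix.smul_one_eq_diagonal]
  refine ⟨P * D, mem_GU.2 ?_, fun g => ?_⟩
  · rw [Units.val_mul, hD, Matrix.mul_smul, mul_one, Matrix.transpose_smul,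
      show (μ⁻¹ • (P : Matrix (Fin 4) (Fin 4) F)).map σ = σ μ⁻¹ • (P : Matrix (Fin 4) (Fin 4) F).map σ by
        ext a b; simp,
      Matrix.smul_mul, Matrix.mul_smul, ← hM, hM1, smul_smul, smul_smul, ← hμp, frobenius_def, inv_pow, pow_succ]
    field_simp
    simp
  · have hcm : D * g = g * D := Units.ext (by simp [hD])
    simp only [MulAut.conj_apply, mul_inv_rev, mul_assoc]
    rw [← mul_assoc D g, hcm, mul_assoc, mul_inv_cancel_left]

omit [Fintype F] [Fact p.Prime] [CharP F p] in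
/-- Transport of maximality along an element of the normalising group. -/
theorem maximal_conj {G : Type*} [Group G] {S R R' : Subgroup G} {N : Subgroup G → Subgroup G}
    (E : G ≃* G) (hS : ∀ g, E g ∈ S ↔ g ∈ S) (hN : ∀ g, E g ∈ N R' ↔ g ∈ N R)
    (h : Cfsg.Geo.IsMaximalIn S (N R ⊓ S)) : Cfsg.Geo.IsMaximalIn S (N R' ⊓ S) := by
  refine ⟨lt_of_le_of_ne inf_le_right fun heq => ?_, fun M hHM hMS => ?_⟩
  · exact h.1.not_ge fun g hg => ⟨(hN g).1 (inf_eq_right.1 heq ((hS g).2 hg)), hg⟩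
  · rcases h.2 (M.comap E.toMonoidHom) (fun g hg => hHM ⟨(hN g).2 hg.1, (hS g).2 hg.2⟩)
      (fun g hg => (hS g).1 (hMS hg)) with h' | h'
    · left
      refine le_antisymm (fun g hg => ⟨?_, hMS hg⟩) hHM
      obtain ⟨g', rfl⟩ := E.surjective g
      exact (hN g').2 (h'.le (show g' ∈ M.comap E.toMonoidHom from hg)).1
    · right
      refine le_antisymm hMS fun g hg => ?_
      obtain ⟨g', rfl⟩ := E.surjective g
      exact h'.ge ((hS g').1 hg)

omit hp [CharP F p] in
/-- The normaliser of a group of symplectic type is maximal. -/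
theorem symType_maximal (q : ℕ) (hF : Fintype.card F = q ^ 2) (p : ℕ) (R : Subgroup (GL (Fin 4) F))
    (hprime : p.Prime) (hq : q = p) (hp4 : p % 4 = 3) (hS : Cfsg.Geo.IsSymplecticTypeGroup 2 R)
    (habs : Cfsg.Geo.ActsAbsolutelyIrreducibly (Cfsg.Geo.matrixSet R)) (hU : R ≤ Cfsg.GU 4 F q)
    (hZ : Nat.card (Subgroup.center R) = 4) :
    Cfsg.Geo.IsMaximalIn (Cfsg.GU 4 F q ⊓ Cfsg.Geo.specialLinear (Fin 4) F)
      (Cfsg.Geo.subgroupNormalizer R ⊓ (Cfsg.GU 4 F q ⊓ Cfsg.Geo.specialLinear (Fin 4) F)) := by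
  subst hq
  haveI : Fact q.Prime := ⟨hprime⟩
  haveI : CharP F q := (CharP.charP_iff_prime_eq_zero hprime).2 (by
    have h := FiniteField.cast_card_eq_zero F
    rwa [hF, Nat.cast_pow, pow_eq_zero_iff two_ne_zero] at h)
  have h2 : (2 : F) ≠ 0 := by
    intro h
    have hd : q ∣ 2 := (CharP.cast_eq_zero_iff F q 2).1 (by exact_mod_cast h)
    have := Nat.le_of_dvd two_pos hd
    omega
  obtain ⟨j, hR⟩ := data_of_group h2 hS habs hZ
  have H : Hyp F q j := ⟨hF, hp4, hR.jj, h2, pow_p_of_sq hp4 hR.jj⟩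
  obtain ⟨P, hP⟩ := exists_conj hR
  obtain ⟨Q, hQ, hPQ⟩ := exists_unitary H (hP ▸ hU)
  refine maximal_conj (N := Cfsg.Geo.subgroupNormalizer) (MulAut.conj Q) (fun g => ?_) (fun g => ?_) (std_maximal H)
  · have hn : (Cfsg.Geo.specialLinear (Fin 4) F).Normal := MonoidHom.normal_ker _
    constructor
    · rintro ⟨h1, h2⟩
      refine ⟨?_, by simpa [mul_assoc] using hn.conj_mem _ h2 Q⁻¹⟩
      have h3 := Subgroup.mul_mem _ (Subgroup.mul_mem _ (Subgroup.inv_mem _ hQ) h1) hQ
      simpa [mul_assoc] using h3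
    · rintro ⟨h1, h2⟩
      exact ⟨Subgroup.mul_mem _ (Subgroup.mul_mem _ hQ h1) (Subgroup.inv_mem _ hQ), hn.conj_mem _ h2 Q⟩
  · have hE : (MulAut.conj Q).toMonoidHom = (MulAut.conj P).toMonoidHom := MonoidHom.ext hPQ
    have hR' : R = ((stdGroup hR.jj).map Matrix.SpecialLinearGroup.toGL).map (MulAut.conj Q).toMonoidHom := by
      rw [hE]; exact hP
    rw [hR']
    exact map_normalizer_iff (MulEquiv.injective _) _ g

end Cfsg.Agent.MaxCl.SUFour
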